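import Cfsg.Agent.Helper28.C1692.Rows0
import Cfsg.Agent.Helper28.C1692.Rows1
import Cfsg.Agent.Helper28.C1692.Rows2
import Cfsg.Agent.Helper28.C1692.Rows3
import Cfsg.Agent.Helper28.C1692.Rows4
import Cfsg.Agent.Helper28.C1692.Rows5
import Cfsg.Agent.Helper28.C1692.Rows6
import Cfsg.Agent.Helper28.C1692.Rows7
import Cfsg.Agent.Helper28.C1692.Rows8
import Cfsg.Agent.Helper28.C1692.Rows9
import Cfsg.Agent.Helper28.C1692.Rows10
import Cfsg.Agent.Helper28.C1692.Rows11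
import Cfsg.Agent.Helper28.C1692.Rows12
import Cfsg.Agent.Helper28.C1692.Rows13
import Cfsg.Agent.Helper28.C1692.Rows14
import Cfsg.Agent.Helper28.C1692.Rows15
import Cfsg.Agent.Helper28.C1692.Rows16
import Cfsg.Agent.Helper28.C1692.Rows17
import Cfsg.Agent.Helper28.C1692.Rows18
import Cfsg.Agent.Helper28.C1692.Rows19
import Cfsg.Agent.Helper28.C1692.Rows20
import Cfsg.Agent.Helper28.C1692.Rows21
import Cfsg.Agent.Helper28.C1692.Rows22
import Cfsg.Agent.Helper28.C1692.Rows23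
import Cfsg.Agent.Helper28.C1692.Rows24
import Cfsg.Agent.Helper28.C1692.Rows25
import Cfsg.Agent.Helper28.C1692.Rows26
import Cfsg.Agent.Helper28.C1692.Rows27
import Cfsg.Agent.Helper28.C1692.Rows28
import Cfsg.Agent.Helper28.C1692.Rows29
import Cfsg.Agent.Helper28.C1692.Rows30
import Cfsg.Agent.Helper28.C1692.Rows31
import Cfsg.Agent.Helper28.C1692.Rows32
import Cfsg.Agent.Helper28.C1692.Rows33
import Cfsg.Agent.Helper28.C1692.Rows34
import Cfsg.Agent.Helper28.C1692.Rows35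
import Cfsg.Agent.Helper28.C1692.Rows36
import Cfsg.Agent.Helper28.C1692.Rows37
import Cfsg.Agent.Helper28.C1692.Rows38
import Cfsg.Agent.Helper28.C1692.Rows39
import Cfsg.Agent.Helper28.C1692.Rows40
import Cfsg.Agent.Helper28.C1692.Rows41
import Cfsg.Agent.Helper28.C1692.Rows42
import Cfsg.Agent.Helper28.C1692.Rows43
import Cfsg.Agent.Helper28.C1692.Rows44
import Cfsg.Agent.Helper28.C1692.Rows45
import Cfsg.Agent.Helper28.C1692.Rows46
import Cfsg.Agent.Helper28.C1692.Rows47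
import Cfsg.Agent.Helper28.C1692.Rows48
import Cfsg.Agent.Helper28.C1692.Rows49
import Cfsg.Agent.Helper28.C1692.Rows50
import Cfsg.Agent.Helper28.C1692.Rows51
import Cfsg.Agent.Helper28.C1692.Rows52
import Cfsg.Agent.Helper28.C1692.Rows53
import Cfsg.Agent.Helper28.C1692.Rows54
import Cfsg.Agent.Helper28.C1692.Rows55
import Cfsg.Agent.Helper28.C1692.Rows56
import Cfsg.Agent.Helper28.C1692.Rows57
import Cfsg.Agent.Helper28.C1692.Rows58
import Cfsg.Agent.Helper28.C1692.Rows59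
import Cfsg.Agent.Helper28.C1692.Rows60
import Cfsg.Agent.Helper28.C1692.Rows61
import Cfsg.Agent.Helper28.C1692.Rows62
import Cfsg.Agent.Helper28.C1692.Rows63
import Cfsg.Agent.Helper28.C1692.Rows64
import Cfsg.Agent.Helper28.C1692.Rows65
import Cfsg.Agent.Helper28.C1692.Rows66
import Cfsg.Agent.Helper28.C1692.Rows67
import Cfsg.Agent.Helper28.C1692.Rows68
import Cfsg.Agent.Helper28.C1692.Rows69
import Cfsg.Agent.Helper28.C1692.Rows70
import Cfsg.Agent.Helper28.C1692.Rows71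
import Cfsg.Agent.Helper28.C1692.Rows72
import Cfsg.Agent.Helper28.C1692.Rows73
import Cfsg.Agent.Helper28.C1692.Rows74
import Cfsg.Agent.Helper28.C1692.Rows75
import Cfsg.Agent.Helper28.C1692.Rows76
import Cfsg.Agent.Helper28.C1692.Rows77
import Cfsg.Agent.Helper28.C1692.Rows78
import Cfsg.Agent.Helper28.C1692.Rows79
import Cfsg.Agent.Helper28.C1692.Rows80
import Cfsg.Agent.Helper28.C1692.Rows81
import Cfsg.Agent.Helper28.C1692.Rows82
import Cfsg.Agent.Helper28.C1692.Rows83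
import Cfsg.Agent.Helper28.C1692.Rows84
import Cfsg.Agent.Helper28.C1692.Rows85
import Cfsg.Agent.Helper28.C1692.Rows86
import Cfsg.Agent.Helper28.C1692.Rows87
import Cfsg.Agent.Helper28.C1692.Rows88
import Cfsg.Agent.Helper28.C1692.Rows89
import Cfsg.Agent.Helper28.C1692.Rows90
import Cfsg.Agent.Helper28.C1692.Rows91
import Cfsg.Agent.Helper28.C1692.Rows92
import Cfsg.Agent.Helper28.C1692.Rows93
import Cfsg.Agent.Helper28.C1692.Rows94
import Cfsg.Agent.Helper28.C1692.Rows95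
import Cfsg.Agent.Helper28.C1692.Rows96
import Cfsg.Agent.Helper28.C1692.Rows97
import Cfsg.Agent.Helper28.C1692.Fin0
import Cfsg.Agent.Helper28.C1692.Fin1
import Cfsg.Agent.Helper28.C1692.Fin2
import Cfsg.Agent.Helper28.C1692.Fin3
import Cfsg.Agent.Helper28.C1692.Fin4
import Cfsg.Agent.Helper28.C1692.Fin5
import Cfsg.Agent.Helper28.C1692.Fin6
import Cfsg.Agent.Helper28.C1692.Fin7
import Cfsg.Agent.Helper28.C1692.Fin8
import Cfsg.Agent.Helper28.C1692.Fin9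
import Cfsg.Agent.Helper28.C1692.Fin10
import Cfsg.Agent.Helper28.C1692.Fin11
import Cfsg.Agent.Helper28.C1692.Fin12
import Cfsg.Agent.Helper28.C1692.Fin13
import Cfsg.Agent.Helper28.C1692.Fin14
import Cfsg.Agent.Helper28.C1692.Fin15
import Cfsg.Agent.Helper28.C1692.Fin16
import Cfsg.Agent.Helper28.C1692.Fin17
import Cfsg.Agent.Helper28.C1692.Fin18
import Cfsg.Agent.Helper28.C1692.Fin19
import Cfsg.Agent.Helper28.C1692.Fin20
import Cfsg.Agent.Helper28.C1692.Fin21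
import Cfsg.Agent.Helper28.C1692.Fin22
import Cfsg.Agent.Helper28.C1692.Fin23
import Cfsg.Agent.Helper28.C1692.Fin24
import Cfsg.Agent.Helper28.C1692.Fin25
import Cfsg.Agent.Helper28.C1692.Fin26
import Cfsg.Agent.Helper28.C1692.Fin27
import Cfsg.Agent.Helper28.C1692.Fin28
import Cfsg.Agent.Helper28.C1692.Fin29
import Cfsg.Agent.Helper28.C1692.Rel0
import Cfsg.Agent.Helper28.C1692.Rel1
import Cfsg.Agent.Helper28.C1692.Rel2
import Cfsg.Agent.Helper28.C1692.Rel3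
import Cfsg.Agent.Helper28.C1692.Rel4
import Cfsg.Agent.Helper28.C1692.Rel5
import Cfsg.Agent.Helper28.C1692.Rel6
import Cfsg.Agent.Helper28.C1692.Rel7
import Cfsg.Agent.Helper28.C1692.Rel8
import Cfsg.Agent.Helper28.C1692.Rel9
import Cfsg.Agent.Helper28.C1692.Rel10
import Cfsg.Agent.Helper28.C1692.Rel11
import Cfsg.Agent.Helper28.C1692.Rel12
import Cfsg.Agent.Helper28.C1692.Rel13
import Cfsg.Agent.Helper28.C1692.Rel14
import Cfsg.Agent.Helper28.C1692.Rel15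
import Cfsg.Agent.Helper28.C1692.Rel16
import Cfsg.Agent.Helper28.C1692.Rel17
import Cfsg.Agent.Helper28.C1692.Rel18
import Cfsg.Agent.Helper28.C1692.Rel19
import Cfsg.Agent.Helper28.C1692.Rel20
import Cfsg.Agent.Helper28.C1692.Rel21
import Cfsg.Agent.Helper28.C1692.Rel22
import Cfsg.Agent.Helper28.C1692.Rel23
import Cfsg.Agent.Helper28.C1692.Rel24
import Cfsg.Agent.Helper28.C1692.Rel25
import Cfsg.Agent.Helper28.C1692.Rel26
import Cfsg.Agent.Helper28.C1692.Rel27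
import Cfsg.Agent.Helper28.C1692.Rel28
import Cfsg.Agent.Helper28.C1692.Rel29
import Cfsg.Agent.Helper28.C1692.Rel30
import Cfsg.Agent.Helper28.C1692.Rel31
import Cfsg.Agent.Helper28.C1692.Rel32
import Cfsg.Agent.Helper28.C1692.Rel33
import Cfsg.Agent.Helper28.C1692.Rel34
import Cfsg.Agent.Helper28.C1692.Rel35
import Cfsg.Agent.Helper28.C1692.Rel36
import Cfsg.Agent.Helper28.C1692.Rel37
import Cfsg.Agent.Helper28.C1692.Rel38
import Cfsg.Agent.Helper28.C1692.Rel39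
import Cfsg.Agent.Helper28.C1692.Rel40
import Cfsg.Agent.Helper28.C1692.Rel41
import Cfsg.Agent.Helper28.C1692.Rel42
import Cfsg.Agent.Helper28.C1692.Rel43
import Cfsg.Agent.Helper28.C1692.Rel44
import Cfsg.Agent.Helper28.C1692.Rel45
import Cfsg.Agent.Helper28.C1692.Rel46
import Cfsg.Agent.Helper28.C1692.Rel47
import Cfsg.Agent.Helper28.C1692.Rel48
import Cfsg.Agent.Helper28.C1692.Rel49
import Cfsg.Agent.Helper28.C1692.Rel50
import Cfsg.Agent.Helper28.C1692.Rel51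
import Cfsg.Agent.Helper28.C1692.Rel52
import Cfsg.Agent.Helper28.C1692.Rel53
import Cfsg.Agent.Helper28.C1692.Rel54
import Cfsg.Agent.Helper28.C1692.Rel55
import Cfsg.Agent.Helper28.C1692.Rel56
import Cfsg.Agent.Helper28.C1692.Rel57
import Cfsg.Agent.Helper28.C1692.Rel58
import Cfsg.Agent.Helper28.C1692.Rel59
import Cfsg.Agent.Helper28.C1692.Rel60
import Cfsg.Agent.Helper28.C1692.Rel61
import Cfsg.Agent.Helper28.C1692.Rel62
import Cfsg.Agent.Helper28.C1692.Rel63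
import Cfsg.Agent.Helper28.C1692.Rel64
import Cfsg.Agent.Helper28.C1692.Rel65
import Cfsg.Agent.Helper28.C1692.Rel66
import Cfsg.Agent.Helper28.C1692.Rel67
import Cfsg.Agent.Helper28.C1692.Rel68
import Cfsg.Agent.Helper28.C1692.Rel69
import Cfsg.Agent.Helper28.C1692.Rel70
import Cfsg.Agent.Helper28.C1692.Rel71
import Cfsg.Agent.Helper28.C1692.Rel72
import Cfsg.Agent.Helper28.C1692.Rel73
import Cfsg.Agent.Helper28.C1692.Rel74
import Cfsg.Agent.Helper28.C1692.Rel75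
import Cfsg.Agent.Helper28.C1692.Rel76
import Cfsg.Agent.Helper28.C1692.Rel77
import Cfsg.Agent.Helper28.C1692.Rel78
import Cfsg.Agent.Helper28.C1692.Rel79
import Cfsg.Agent.Helper28.C1692.Rel80
import Cfsg.Agent.Helper28.C1692.Rel81
import Cfsg.Agent.Helper28.C1692.Rel82
import Cfsg.Agent.Helper28.C1692.Rel83
import Cfsg.Agent.Helper28.C1692.Rel84
import Cfsg.Agent.Helper28.C1692.Rel85
import Cfsg.Agent.Helper28.C1692.Rel86
import Cfsg.Agent.Helper28.C1692.Rel87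
import Cfsg.Agent.Helper28.C1692.Rel88
import Cfsg.Agent.Helper28.C1692.Rel89
import Cfsg.Agent.Helper28.C1692.Rel90
import Cfsg.Agent.Helper28.C1692.Rel91
import Cfsg.Agent.Helper28.C1692.Rel92
import Cfsg.Agent.Helper28.C1692.Rel93
import Cfsg.Agent.Helper28.C1692.Rel94
import Cfsg.Agent.Helper28.C1692.Rel95
import Cfsg.Agent.Helper28.C1692.Rel96
import Cfsg.Agent.Helper28.C1692.Rel97
import Cfsg.Agent.Helper28.C1692.Rel98
import Cfsg.Agent.Helper28.C1692.Rel99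
import Cfsg.Agent.Helper28.C1692.Rel100
import Cfsg.Agent.Helper28.C1692.Rel101
import Cfsg.Agent.Helper28.C1692.Rel102
import Cfsg.Agent.Helper28.C1692.Rel103
import Cfsg.Agent.Helper28.C1692.Rel104
import Cfsg.Agent.Helper28.C1692.Rel105
import Cfsg.Agent.Helper28.C1692.Rel106
import Cfsg.Agent.Helper28.C1692.Rel107
import Cfsg.Agent.Helper28.C1692.Rel108
import Cfsg.Agent.Helper28.C1692.Rel109
import Cfsg.Agent.Helper28.C1692.Rel110
import Cfsg.Agent.Helper28.C1692.Rel111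
import Cfsg.Agent.Helper28.C1692.Rel112
import Cfsg.Agent.Helper28.C1692.Rel113
import Cfsg.Agent.Helper28.C1692.Rel114
import Cfsg.Agent.Helper28.C1692.Rel115
import Cfsg.Agent.Helper28.C1692.Rel116
import Cfsg.Agent.Helper28.C1692.Rel117
import Cfsg.Agent.Helper28.C1692.Rel118
import Cfsg.Agent.Helper28.C1692.Rel119

set_option autoImplicit false
set_option linter.unusedSimpArgs false

namespace Cfsg.Agent.Helper28.C1692

set_option maxRecDepth 100000 in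
theorem rows_all : ∀ x, x < 200583 → Cfsg.Agent.Helper28.Gn.rowChk D x = true :=
  Cfsg.Agent.Helper28.pts_of_chunks _ 200583 512 392 (by decide) (by decide)
    (Cfsg.Agent.Helper28.allLt_succ _ 391 (Cfsg.Agent.Helper28.allLt_succ _ 390 (Cfsg.Agent.Helper28.allLt_succ _ 389 (Cfsg.Agent.Helper28.allLt_succ _ 388 (Cfsg.Agent.Helper28.allLt_succ _ 387 (Cfsg.Agent.Helper28.allLt_succ _ 386 (Cfsg.Agent.Helper28.allLt_succ _ 385 (Cfsg.Agent.Helper28.allLt_succ _ 384 (Cfsg.Agent.Helper28.allLt_succ _ 383 (Cfsg.Agent.Helper28.allLt_succ _ 382 (Cfsg.Agent.Helper28.allLt_succ _ 381 (Cfsg.Agent.Helper28.allLt_succ _ 380 (Cfsg.Agent.Helper28.allLt_succ _ 379 (Cfsg.Agent.Helper28.allLt_succ _ 378 (Cfsg.Agent.Helper28.allLt_succ _ 377 (Cfsg.Agent.Helper28.allLt_succ _ 376 (Cfsg.Agent.Helper28.allLt_succ _ 375 (Cfsg.Agent.Helper28.allLt_succ _ 374 (Cfsg.Agent.Helper28.allLt_succ _ 373 (Cfsg.Agent.Helper28.allLt_succ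 _ 372 (Cfsg.Agent.Helper28.allLt_succ _ 371 (Cfsg.Agent.Helper28.allLt_succ _ 370 (Cfsg.Agent.Helper28.allLt_succ _ 369 (Cfsg.Agent.Helper28.allLt_succ _ 368 (Cfsg.Agent.Helper28.allLt_succ _ 367 (Cfsg.Agent.Helper28.allLt_succ _ 366 (Cfsg.Agent.Helper28.allLt_succ _ 365 (Cfsg.Agent.Helper28.allLt_succ _ 364 (Cfsg.Agent.Helper28.allLt_succ _ 363 (Cfsg.Agent.Helper28.allLt_succ _ 362 (Cfsg.Agent.Helper28.allLt_succ _ 361 (Cfsg.Agent.Helper28.allLt_succ _ 360 (Cfsg.Agent.Helper28.allLt_succ _ 359 (Cfsg.Agent.Helper28.allLt_succ _ 358 (Cfsg.Agent.Helper28.allLt_succ _ 357 (Cfsg.Agent.Helper28.allLt_succ _ 356 (Cfsg.Agent.Helper28.allLt_succ _ 355 (Cfsg.Agent.Helper28.allLt_succ _ 354 (Cfsg.Agent.Helper28.allLt_succ _ 353 (Cfsg.Agent.Helper28.allLt_succ _ 352 (Cfsg.Agent.Helper28.allLt_succ _ 351 (Cfsg.Agent.Helper28.allLt_succ _ 350 (Cfsg.Agent.Helper28.allLt_succ _ 349 (Cfsg.Agent.Helper28.allLt_succ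 _ 348 (Cfsg.Agent.Helper28.allLt_succ _ 347 (Cfsg.Agent.Helper28.allLt_succ _ 346 (Cfsg.Agent.Helper28.allLt_succ _ 345 (Cfsg.Agent.Helper28.allLt_succ _ 344 (Cfsg.Agent.Helper28.allLt_succ _ 343 (Cfsg.Agent.Helper28.allLt_succ _ 342 (Cfsg.Agent.Helper28.allLt_succ _ 341 (Cfsg.Agent.Helper28.allLt_succ _ 340 (Cfsg.Agent.Helper28.allLt_succ _ 339 (Cfsg.Agent.Helper28.allLt_succ _ 338 (Cfsg.Agent.Helper28.allLt_succ _ 337 (Cfsg.Agent.Helper28.allLt_succ _ 336 (Cfsg.Agent.Helper28.allLt_succ _ 335 (Cfsg.Agent.Helper28.allLt_succ _ 334 (Cfsg.Agent.Helper28.allLt_succ _ 333 (Cfsg.Agent.Helper28.allLt_succ _ 332 (Cfsg.Agent.Helper28.allLt_succ _ 331 (Cfsg.Agent.Helper28.allLt_succ _ 330 (Cfsg.Agent.Helper28.allLt_succ _ 329 (Cfsg.Agent.Helper28.allLt_succ _ 328 (Cfsg.Agent.Helper28.allLt_succ _ 327 (Cfsg.Agent.Helper28.allLt_succ _ 326 (Cfsg.Agent.Helper28.allLt_succ _ 325 (Cfsg.Agent.Helper28.allLt_succ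 _ 324 (Cfsg.Agent.Helper28.allLt_succ _ 323 (Cfsg.Agent.Helper28.allLt_succ _ 322 (Cfsg.Agent.Helper28.allLt_succ _ 321 (Cfsg.Agent.Helper28.allLt_succ _ 320 (Cfsg.Agent.Helper28.allLt_succ _ 319 (Cfsg.Agent.Helper28.allLt_succ _ 318 (Cfsg.Agent.Helper28.allLt_succ _ 317 (Cfsg.Agent.Helper28.allLt_succ _ 316 (Cfsg.Agent.Helper28.allLt_succ _ 315 (Cfsg.Agent.Helper28.allLt_succ _ 314 (Cfsg.Agent.Helper28.allLt_succ _ 313 (Cfsg.Agent.Helper28.allLt_succ _ 312 (Cfsg.Agent.Helper28.allLt_succ _ 311 (Cfsg.Agent.Helper28.allLt_succ _ 310 (Cfsg.Agent.Helper28.allLt_succ _ 309 (Cfsg.Agent.Helper28.allLt_succ _ 308 (Cfsg.Agent.Helper28.allLt_succ _ 307 (Cfsg.Agent.Helper28.allLt_succ _ 306 (Cfsg.Agent.Helper28.allLt_succ _ 305 (Cfsg.Agent.Helper28.allLt_succ _ 304 (Cfsg.Agent.Helper28.allLt_succ _ 303 (Cfsg.Agent.Helper28.allLt_succ _ 302 (Cfsg.Agent.Helper28.allLt_succ _ 301 (Cfsg.Agent.Helper28.allLt_succ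 _ 300 (Cfsg.Agent.Helper28.allLt_succ _ 299 (Cfsg.Agent.Helper28.allLt_succ _ 298 (Cfsg.Agent.Helper28.allLt_succ _ 297 (Cfsg.Agent.Helper28.allLt_succ _ 296 (Cfsg.Agent.Helper28.allLt_succ _ 295 (Cfsg.Agent.Helper28.allLt_succ _ 294 (Cfsg.Agent.Helper28.allLt_succ _ 293 (Cfsg.Agent.Helper28.allLt_succ _ 292 (Cfsg.Agent.Helper28.allLt_succ _ 291 (Cfsg.Agent.Helper28.allLt_succ _ 290 (Cfsg.Agent.Helper28.allLt_succ _ 289 (Cfsg.Agent.Helper28.allLt_succ _ 288 (Cfsg.Agent.Helper28.allLt_succ _ 287 (Cfsg.Agent.Helper28.allLt_succ _ 286 (Cfsg.Agent.Helper28.allLt_succ _ 285 (Cfsg.Agent.Helper28.allLt_succ _ 284 (Cfsg.Agent.Helper28.allLt_succ _ 283 (Cfsg.Agent.Helper28.allLt_succ _ 282 (Cfsg.Agent.Helper28.allLt_succ _ 281 (Cfsg.Agent.Helper28.allLt_succ _ 280 (Cfsg.Agent.Helper28.allLt_succ _ 279 (Cfsg.Agent.Helper28.allLt_succ _ 278 (Cfsg.Agent.Helper28.allLt_succ _ 277 (Cfsg.Agent.Helper28.allLt_succ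 _ 276 (Cfsg.Agent.Helper28.allLt_succ _ 275 (Cfsg.Agent.Helper28.allLt_succ _ 274 (Cfsg.Agent.Helper28.allLt_succ _ 273 (Cfsg.Agent.Helper28.allLt_succ _ 272 (Cfsg.Agent.Helper28.allLt_succ _ 271 (Cfsg.Agent.Helper28.allLt_succ _ 270 (Cfsg.Agent.Helper28.allLt_succ _ 269 (Cfsg.Agent.Helper28.allLt_succ _ 268 (Cfsg.Agent.Helper28.allLt_succ _ 267 (Cfsg.Agent.Helper28.allLt_succ _ 266 (Cfsg.Agent.Helper28.allLt_succ _ 265 (Cfsg.Agent.Helper28.allLt_succ _ 264 (Cfsg.Agent.Helper28.allLt_succ _ 263 (Cfsg.Agent.Helper28.allLt_succ _ 262 (Cfsg.Agent.Helper28.allLt_succ _ 261 (Cfsg.Agent.Helper28.allLt_succ _ 260 (Cfsg.Agent.Helper28.allLt_succ _ 259 (Cfsg.Agent.Helper28.allLt_succ _ 258 (Cfsg.Agent.Helper28.allLt_succ _ 257 (Cfsg.Agent.Helper28.allLt_succ _ 256 (Cfsg.Agent.Helper28.allLt_succ _ 255 (Cfsg.Agent.Helper28.allLt_succ _ 254 (Cfsg.Agent.Helper28.allLt_succ _ 253 (Cfsg.Agent.Helper28.allLt_succ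 _ 252 (Cfsg.Agent.Helper28.allLt_succ _ 251 (Cfsg.Agent.Helper28.allLt_succ _ 250 (Cfsg.Agent.Helper28.allLt_succ _ 249 (Cfsg.Agent.Helper28.allLt_succ _ 248 (Cfsg.Agent.Helper28.allLt_succ _ 247 (Cfsg.Agent.Helper28.allLt_succ _ 246 (Cfsg.Agent.Helper28.allLt_succ _ 245 (Cfsg.Agent.Helper28.allLt_succ _ 244 (Cfsg.Agent.Helper28.allLt_succ _ 243 (Cfsg.Agent.Helper28.allLt_succ _ 242 (Cfsg.Agent.Helper28.allLt_succ _ 241 (Cfsg.Agent.Helper28.allLt_succ _ 240 (Cfsg.Agent.Helper28.allLt_succ _ 239 (Cfsg.Agent.Helper28.allLt_succ _ 238 (Cfsg.Agent.Helper28.allLt_succ _ 237 (Cfsg.Agent.Helper28.allLt_succ _ 236 (Cfsg.Agent.Helper28.allLt_succ _ 235 (Cfsg.Agent.Helper28.allLt_succ _ 234 (Cfsg.Agent.Helper28.allLt_succ _ 233 (Cfsg.Agent.Helper28.allLt_succ _ 232 (Cfsg.Agent.Helper28.allLt_succ _ 231 (Cfsg.Agent.Helper28.allLt_succ _ 230 (Cfsg.Agent.Helper28.allLt_succ _ 229 (Cfsg.Agent.Helper28.allLt_succ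 _ 228 (Cfsg.Agent.Helper28.allLt_succ _ 227 (Cfsg.Agent.Helper28.allLt_succ _ 226 (Cfsg.Agent.Helper28.allLt_succ _ 225 (Cfsg.Agent.Helper28.allLt_succ _ 224 (Cfsg.Agent.Helper28.allLt_succ _ 223 (Cfsg.Agent.Helper28.allLt_succ _ 222 (Cfsg.Agent.Helper28.allLt_succ _ 221 (Cfsg.Agent.Helper28.allLt_succ _ 220 (Cfsg.Agent.Helper28.allLt_succ _ 219 (Cfsg.Agent.Helper28.allLt_succ _ 218 (Cfsg.Agent.Helper28.allLt_succ _ 217 (Cfsg.Agent.Helper28.allLt_succ _ 216 (Cfsg.Agent.Helper28.allLt_succ _ 215 (Cfsg.Agent.Helper28.allLt_succ _ 214 (Cfsg.Agent.Helper28.allLt_succ _ 213 (Cfsg.Agent.Helper28.allLt_succ _ 212 (Cfsg.Agent.Helper28.allLt_succ _ 211 (Cfsg.Agent.Helper28.allLt_succ _ 210 (Cfsg.Agent.Helper28.allLt_succ _ 209 (Cfsg.Agent.Helper28.allLt_succ _ 208 (Cfsg.Agent.Helper28.allLt_succ _ 207 (Cfsg.Agent.Helper28.allLt_succ _ 206 (Cfsg.Agent.Helper28.allLt_succ _ 205 (Cfsg.Agent.Helper28.allLt_succ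 _ 204 (Cfsg.Agent.Helper28.allLt_succ _ 203 (Cfsg.Agent.Helper28.allLt_succ _ 202 (Cfsg.Agent.Helper28.allLt_succ _ 201 (Cfsg.Agent.Helper28.allLt_succ _ 200 (Cfsg.Agent.Helper28.allLt_succ _ 199 (Cfsg.Agent.Helper28.allLt_succ _ 198 (Cfsg.Agent.Helper28.allLt_succ _ 197 (Cfsg.Agent.Helper28.allLt_succ _ 196 (Cfsg.Agent.Helper28.allLt_succ _ 195 (Cfsg.Agent.Helper28.allLt_succ _ 194 (Cfsg.Agent.Helper28.allLt_succ _ 193 (Cfsg.Agent.Helper28.allLt_succ _ 192 (Cfsg.Agent.Helper28.allLt_succ _ 191 (Cfsg.Agent.Helper28.allLt_succ _ 190 (Cfsg.Agent.Helper28.allLt_succ _ 189 (Cfsg.Agent.Helper28.allLt_succ _ 188 (Cfsg.Agent.Helper28.allLt_succ _ 187 (Cfsg.Agent.Helper28.allLt_succ _ 186 (Cfsg.Agent.Helper28.allLt_succ _ 185 (Cfsg.Agent.Helper28.allLt_succ _ 184 (Cfsg.Agent.Helper28.allLt_succ _ 183 (Cfsg.Agent.Helper28.allLt_succ _ 182 (Cfsg.Agent.Helper28.allLt_succ _ 181 (Cfsg.Agent.Helper28.allLt_succ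 _ 180 (Cfsg.Agent.Helper28.allLt_succ _ 179 (Cfsg.Agent.Helper28.allLt_succ _ 178 (Cfsg.Agent.Helper28.allLt_succ _ 177 (Cfsg.Agent.Helper28.allLt_succ _ 176 (Cfsg.Agent.Helper28.allLt_succ _ 175 (Cfsg.Agent.Helper28.allLt_succ _ 174 (Cfsg.Agent.Helper28.allLt_succ _ 173 (Cfsg.Agent.Helper28.allLt_succ _ 172 (Cfsg.Agent.Helper28.allLt_succ _ 171 (Cfsg.Agent.Helper28.allLt_succ _ 170 (Cfsg.Agent.Helper28.allLt_succ _ 169 (Cfsg.Agent.Helper28.allLt_succ _ 168 (Cfsg.Agent.Helper28.allLt_succ _ 167 (Cfsg.Agent.Helper28.allLt_succ _ 166 (Cfsg.Agent.Helper28.allLt_succ _ 165 (Cfsg.Agent.Helper28.allLt_succ _ 164 (Cfsg.Agent.Helper28.allLt_succ _ 163 (Cfsg.Agent.Helper28.allLt_succ _ 162 (Cfsg.Agent.Helper28.allLt_succ _ 161 (Cfsg.Agent.Helper28.allLt_succ _ 160 (Cfsg.Agent.Helper28.allLt_succ _ 159 (Cfsg.Agent.Helper28.allLt_succ _ 158 (Cfsg.Agent.Helper28.allLt_succ _ 157 (Cfsg.Agent.Helper28.allLt_succ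 _ 156 (Cfsg.Agent.Helper28.allLt_succ _ 155 (Cfsg.Agent.Helper28.allLt_succ _ 154 (Cfsg.Agent.Helper28.allLt_succ _ 153 (Cfsg.Agent.Helper28.allLt_succ _ 152 (Cfsg.Agent.Helper28.allLt_succ _ 151 (Cfsg.Agent.Helper28.allLt_succ _ 150 (Cfsg.Agent.Helper28.allLt_succ _ 149 (Cfsg.Agent.Helper28.allLt_succ _ 148 (Cfsg.Agent.Helper28.allLt_succ _ 147 (Cfsg.Agent.Helper28.allLt_succ _ 146 (Cfsg.Agent.Helper28.allLt_succ _ 145 (Cfsg.Agent.Helper28.allLt_succ _ 144 (Cfsg.Agent.Helper28.allLt_succ _ 143 (Cfsg.Agent.Helper28.allLt_succ _ 142 (Cfsg.Agent.Helper28.allLt_succ _ 141 (Cfsg.Agent.Helper28.allLt_succ _ 140 (Cfsg.Agent.Helper28.allLt_succ _ 139 (Cfsg.Agent.Helper28.allLt_succ _ 138 (Cfsg.Agent.Helper28.allLt_succ _ 137 (Cfsg.Agent.Helper28.allLt_succ _ 136 (Cfsg.Agent.Helper28.allLt_succ _ 135 (Cfsg.Agent.Helper28.allLt_succ _ 134 (Cfsg.Agent.Helper28.allLt_succ _ 133 (Cfsg.Agent.Helper28.allLt_succ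 _ 132 (Cfsg.Agent.Helper28.allLt_succ _ 131 (Cfsg.Agent.Helper28.allLt_succ _ 130 (Cfsg.Agent.Helper28.allLt_succ _ 129 (Cfsg.Agent.Helper28.allLt_succ _ 128 (Cfsg.Agent.Helper28.allLt_succ _ 127 (Cfsg.Agent.Helper28.allLt_succ _ 126 (Cfsg.Agent.Helper28.allLt_succ _ 125 (Cfsg.Agent.Helper28.allLt_succ _ 124 (Cfsg.Agent.Helper28.allLt_succ _ 123 (Cfsg.Agent.Helper28.allLt_succ _ 122 (Cfsg.Agent.Helper28.allLt_succ _ 121 (Cfsg.Agent.Helper28.allLt_succ _ 120 (Cfsg.Agent.Helper28.allLt_succ _ 119 (Cfsg.Agent.Helper28.allLt_succ _ 118 (Cfsg.Agent.Helper28.allLt_succ _ 117 (Cfsg.Agent.Helper28.allLt_succ _ 116 (Cfsg.Agent.Helper28.allLt_succ _ 115 (Cfsg.Agent.Helper28.allLt_succ _ 114 (Cfsg.Agent.Helper28.allLt_succ _ 113 (Cfsg.Agent.Helper28.allLt_succ _ 112 (Cfsg.Agent.Helper28.allLt_succ _ 111 (Cfsg.Agent.Helper28.allLt_succ _ 110 (Cfsg.Agent.Helper28.allLt_succ _ 109 (Cfsg.Agent.Helper28.allLt_succ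 _ 108 (Cfsg.Agent.Helper28.allLt_succ _ 107 (Cfsg.Agent.Helper28.allLt_succ _ 106 (Cfsg.Agent.Helper28.allLt_succ _ 105 (Cfsg.Agent.Helper28.allLt_succ _ 104 (Cfsg.Agent.Helper28.allLt_succ _ 103 (Cfsg.Agent.Helper28.allLt_succ _ 102 (Cfsg.Agent.Helper28.allLt_succ _ 101 (Cfsg.Agent.Helper28.allLt_succ _ 100 (Cfsg.Agent.Helper28.allLt_succ _ 99 (Cfsg.Agent.Helper28.allLt_succ _ 98 (Cfsg.Agent.Helper28.allLt_succ _ 97 (Cfsg.Agent.Helper28.allLt_succ _ 96 (Cfsg.Agent.Helper28.allLt_succ _ 95 (Cfsg.Agent.Helper28.allLt_succ _ 94 (Cfsg.Agent.Helper28.allLt_succ _ 93 (Cfsg.Agent.Helper28.allLt_succ _ 92 (Cfsg.Agent.Helper28.allLt_succ _ 91 (Cfsg.Agent.Helper28.allLt_succ _ 90 (Cfsg.Agent.Helper28.allLt_succ _ 89 (Cfsg.Agent.Helper28.allLt_succ _ 88 (Cfsg.Agent.Helper28.allLt_succ _ 87 (Cfsg.Agent.Helper28.allLt_succ _ 86 (Cfsg.Agent.Helper28.allLt_succ _ 85 (Cfsg.Agent.Helper28.allLt_succ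 _ 84 (Cfsg.Agent.Helper28.allLt_succ _ 83 (Cfsg.Agent.Helper28.allLt_succ _ 82 (Cfsg.Agent.Helper28.allLt_succ _ 81 (Cfsg.Agent.Helper28.allLt_succ _ 80 (Cfsg.Agent.Helper28.allLt_succ _ 79 (Cfsg.Agent.Helper28.allLt_succ _ 78 (Cfsg.Agent.Helper28.allLt_succ _ 77 (Cfsg.Agent.Helper28.allLt_succ _ 76 (Cfsg.Agent.Helper28.allLt_succ _ 75 (Cfsg.Agent.Helper28.allLt_succ _ 74 (Cfsg.Agent.Helper28.allLt_succ _ 73 (Cfsg.Agent.Helper28.allLt_succ _ 72 (Cfsg.Agent.Helper28.allLt_succ _ 71 (Cfsg.Agent.Helper28.allLt_succ _ 70 (Cfsg.Agent.Helper28.allLt_succ _ 69 (Cfsg.Agent.Helper28.allLt_succ _ 68 (Cfsg.Agent.Helper28.allLt_succ _ 67 (Cfsg.Agent.Helper28.allLt_succ _ 66 (Cfsg.Agent.Helper28.allLt_succ _ 65 (Cfsg.Agent.Helper28.allLt_succ _ 64 (Cfsg.Agent.Helper28.allLt_succ _ 63 (Cfsg.Agent.Helper28.allLt_succ _ 62 (Cfsg.Agent.Helper28.allLt_succ _ 61 (Cfsg.Agent.Helper28.allLt_succ _ 60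 (Cfsg.Agent.Helper28.allLt_succ _ 59 (Cfsg.Agent.Helper28.allLt_succ _ 58 (Cfsg.Agent.Helper28.allLt_succ _ 57 (Cfsg.Agent.Helper28.allLt_succ _ 56 (Cfsg.Agent.Helper28.allLt_succ _ 55 (Cfsg.Agent.Helper28.allLt_succ _ 54 (Cfsg.Agent.Helper28.allLt_succ _ 53 (Cfsg.Agent.Helper28.allLt_succ _ 52 (Cfsg.Agent.Helper28.allLt_succ _ 51 (Cfsg.Agent.Helper28.allLt_succ _ 50 (Cfsg.Agent.Helper28.allLt_succ _ 49 (Cfsg.Agent.Helper28.allLt_succ _ 48 (Cfsg.Agent.Helper28.allLt_succ _ 47 (Cfsg.Agent.Helper28.allLt_succ _ 46 (Cfsg.Agent.Helper28.allLt_succ _ 45 (Cfsg.Agent.Helper28.allLt_succ _ 44 (Cfsg.Agent.Helper28.allLt_succ _ 43 (Cfsg.Agent.Helper28.allLt_succ _ 42 (Cfsg.Agent.Helper28.allLt_succ _ 41 (Cfsg.Agent.Helper28.allLt_succ _ 40 (Cfsg.Agent.Helper28.allLt_succ _ 39 (Cfsg.Agent.Helper28.allLt_succ _ 38 (Cfsg.Agent.Helper28.allLt_succ _ 37 (Cfsg.Agent.Helper28.allLt_succ _ 36 (Cfsg.Agent.Helper28.allLt_succ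 _ 35 (Cfsg.Agent.Helper28.allLt_succ _ 34 (Cfsg.Agent.Helper28.allLt_succ _ 33 (Cfsg.Agent.Helper28.allLt_succ _ 32 (Cfsg.Agent.Helper28.allLt_succ _ 31 (Cfsg.Agent.Helper28.allLt_succ _ 30 (Cfsg.Agent.Helper28.allLt_succ _ 29 (Cfsg.Agent.Helper28.allLt_succ _ 28 (Cfsg.Agent.Helper28.allLt_succ _ 27 (Cfsg.Agent.Helper28.allLt_succ _ 26 (Cfsg.Agent.Helper28.allLt_succ _ 25 (Cfsg.Agent.Helper28.allLt_succ _ 24 (Cfsg.Agent.Helper28.allLt_succ _ 23 (Cfsg.Agent.Helper28.allLt_succ _ 22 (Cfsg.Agent.Helper28.allLt_succ _ 21 (Cfsg.Agent.Helper28.allLt_succ _ 20 (Cfsg.Agent.Helper28.allLt_succ _ 19 (Cfsg.Agent.Helper28.allLt_succ _ 18 (Cfsg.Agent.Helper28.allLt_succ _ 17 (Cfsg.Agent.Helper28.allLt_succ _ 16 (Cfsg.Agent.Helper28.allLt_succ _ 15 (Cfsg.Agent.Helper28.allLt_succ _ 14 (Cfsg.Agent.Helper28.allLt_succ _ 13 (Cfsg.Agent.Helper28.allLt_succ _ 12 (Cfsg.Agent.Helper28.allLt_succ _ 11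 (Cfsg.Agent.Helper28.allLt_succ _ 10 (Cfsg.Agent.Helper28.allLt_succ _ 9 (Cfsg.Agent.Helper28.allLt_succ _ 8 (Cfsg.Agent.Helper28.allLt_succ _ 7 (Cfsg.Agent.Helper28.allLt_succ _ 6 (Cfsg.Agent.Helper28.allLt_succ _ 5 (Cfsg.Agent.Helper28.allLt_succ _ 4 (Cfsg.Agent.Helper28.allLt_succ _ 3 (Cfsg.Agent.Helper28.allLt_succ _ 2 (Cfsg.Agent.Helper28.allLt_succ _ 1 (Cfsg.Agent.Helper28.allLt_succ _ 0 (Cfsg.Agent.Helper28.allLt_zero _) rows_0) rows_1) rows_2) rows_3) rows_4) rows_5) rows_6) rows_7) rows_8) rows_9) rows_10) rows_11) rows_12) rows_13) rows_14) rows_15) rows_16) rows_17) rows_18) rows_19) rows_20) rows_21) rows_22) rows_23) rows_24) rows_25) rows_26) rows_27) rows_28) rows_29) rows_30) rows_31) rows_32) rows_33) rows_34) rows_35) rows_36) rows_37) rows_38) rows_39) rows_40) rows_41) rows_42) rows_43) rows_44) rows_45) rows_46) rows_47) rows_48) rows_49) rows_50) rows_51) rows_52)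 rows_53) rows_54) rows_55) rows_56) rows_57) rows_58) rows_59) rows_60) rows_61) rows_62) rows_63) rows_64) rows_65) rows_66) rows_67) rows_68) rows_69) rows_70) rows_71) rows_72) rows_73) rows_74) rows_75) rows_76) rows_77) rows_78) rows_79) rows_80) rows_81) rows_82) rows_83) rows_84) rows_85) rows_86) rows_87) rows_88) rows_89) rows_90) rows_91) rows_92) rows_93) rows_94) rows_95) rows_96) rows_97) rows_98) rows_99) rows_100) rows_101) rows_102) rows_103) rows_104) rows_105) rows_106) rows_107) rows_108) rows_109) rows_110) rows_111) rows_112) rows_113) rows_114) rows_115) rows_116) rows_117) rows_118) rows_119) rows_120) rows_121) rows_122) rows_123) rows_124) rows_125) rows_126) rows_127) rows_128) rows_129) rows_130) rows_131) rows_132) rows_133) rows_134) rows_135) rows_136) rows_137) rows_138) rows_139) rows_140) rows_141) rows_142) rows_143) rows_144) rows_145) rows_146)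 rows_147) rows_148) rows_149) rows_150) rows_151) rows_152) rows_153) rows_154) rows_155) rows_156) rows_157) rows_158) rows_159) rows_160) rows_161) rows_162) rows_163) rows_164) rows_165) rows_166) rows_167) rows_168) rows_169) rows_170) rows_171) rows_172) rows_173) rows_174) rows_175) rows_176) rows_177) rows_178) rows_179) rows_180) rows_181) rows_182) rows_183) rows_184) rows_185) rows_186) rows_187) rows_188) rows_189) rows_190) rows_191) rows_192) rows_193) rows_194) rows_195) rows_196) rows_197) rows_198) rows_199) rows_200) rows_201) rows_202) rows_203) rows_204) rows_205) rows_206) rows_207) rows_208) rows_209) rows_210) rows_211) rows_212) rows_213) rows_214) rows_215) rows_216) rows_217) rows_218) rows_219) rows_220) rows_221) rows_222) rows_223) rows_224) rows_225) rows_226) rows_227) rows_228) rows_229) rows_230) rows_231) rows_232) rows_233) rows_234) rows_235) rows_236)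 rows_237) rows_238) rows_239) rows_240) rows_241) rows_242) rows_243) rows_244) rows_245) rows_246) rows_247) rows_248) rows_249) rows_250) rows_251) rows_252) rows_253) rows_254) rows_255) rows_256) rows_257) rows_258) rows_259) rows_260) rows_261) rows_262) rows_263) rows_264) rows_265) rows_266) rows_267) rows_268) rows_269) rows_270) rows_271) rows_272) rows_273) rows_274) rows_275) rows_276) rows_277) rows_278) rows_279) rows_280) rows_281) rows_282) rows_283) rows_284) rows_285) rows_286) rows_287) rows_288) rows_289) rows_290) rows_291) rows_292) rows_293) rows_294) rows_295) rows_296) rows_297) rows_298) rows_299) rows_300) rows_301) rows_302) rows_303) rows_304) rows_305) rows_306) rows_307) rows_308) rows_309) rows_310) rows_311) rows_312) rows_313) rows_314) rows_315) rows_316) rows_317) rows_318) rows_319) rows_320) rows_321) rows_322) rows_323) rows_324) rows_325) rows_326)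 rows_327) rows_328) rows_329) rows_330) rows_331) rows_332) rows_333) rows_334) rows_335) rows_336) rows_337) rows_338) rows_339) rows_340) rows_341) rows_342) rows_343) rows_344) rows_345) rows_346) rows_347) rows_348) rows_349) rows_350) rows_351) rows_352) rows_353) rows_354) rows_355) rows_356) rows_357) rows_358) rows_359) rows_360) rows_361) rows_362) rows_363) rows_364) rows_365) rows_366) rows_367) rows_368) rows_369) rows_370) rows_371) rows_372) rows_373) rows_374) rows_375) rows_376) rows_377) rows_378) rows_379) rows_380) rows_381) rows_382) rows_383) rows_384) rows_385) rows_386) rows_387) rows_388) rows_389) rows_390) rows_391)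

set_option maxRecDepth 100000 in
theorem fin_all : ∀ i, i < 122760 → Cfsg.Agent.Helper28.Gn.finPt D 122760 lv T ftp ftc i = true :=
  Cfsg.Agent.Helper28.pts_of_chunks _ 122760 2048 60 (by decide) (by decide)
    (Cfsg.Agent.Helper28.allLt_succ _ 59 (Cfsg.Agent.Helper28.allLt_succ _ 58 (Cfsg.Agent.Helper28.allLt_succ _ 57 (Cfsg.Agent.Helper28.allLt_succ _ 56 (Cfsg.Agent.Helper28.allLt_succ _ 55 (Cfsg.Agent.Helper28.allLt_succ _ 54 (Cfsg.Agent.Helper28.allLt_succ _ 53 (Cfsg.Agent.Helper28.allLt_succ _ 52 (Cfsg.Agent.Helper28.allLt_succ _ 51 (Cfsg.Agent.Helper28.allLt_succ _ 50 (Cfsg.Agent.Helper28.allLt_succ _ 49 (Cfsg.Agent.Helper28.allLt_succ _ 48 (Cfsg.Agent.Helper28.allLt_succ _ 47 (Cfsg.Agent.Helper28.allLt_succ _ 46 (Cfsg.Agent.Helper28.allLt_succ _ 45 (Cfsg.Agent.Helper28.allLt_succ _ 44 (Cfsg.Agent.Helper28.allLt_succ _ 43 (Cfsg.Agent.Helper28.allLt_succ _ 42 (Cfsg.Agent.Helper28.allLt_succ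 _ 41 (Cfsg.Agent.Helper28.allLt_succ _ 40 (Cfsg.Agent.Helper28.allLt_succ _ 39 (Cfsg.Agent.Helper28.allLt_succ _ 38 (Cfsg.Agent.Helper28.allLt_succ _ 37 (Cfsg.Agent.Helper28.allLt_succ _ 36 (Cfsg.Agent.Helper28.allLt_succ _ 35 (Cfsg.Agent.Helper28.allLt_succ _ 34 (Cfsg.Agent.Helper28.allLt_succ _ 33 (Cfsg.Agent.Helper28.allLt_succ _ 32 (Cfsg.Agent.Helper28.allLt_succ _ 31 (Cfsg.Agent.Helper28.allLt_succ _ 30 (Cfsg.Agent.Helper28.allLt_succ _ 29 (Cfsg.Agent.Helper28.allLt_succ _ 28 (Cfsg.Agent.Helper28.allLt_succ _ 27 (Cfsg.Agent.Helper28.allLt_succ _ 26 (Cfsg.Agent.Helper28.allLt_succ _ 25 (Cfsg.Agent.Helper28.allLt_succ _ 24 (Cfsg.Agent.Helper28.allLt_succ _ 23 (Cfsg.Agent.Helper28.allLt_succ _ 22 (Cfsg.Agent.Helper28.allLt_succ _ 21 (Cfsg.Agent.Helper28.allLt_succ _ 20 (Cfsg.Agent.Helper28.allLt_succ _ 19 (Cfsg.Agent.Helper28.allLt_succ _ 18 (Cfsg.Agent.Helper28.allLt_succ _ 17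 (Cfsg.Agent.Helper28.allLt_succ _ 16 (Cfsg.Agent.Helper28.allLt_succ _ 15 (Cfsg.Agent.Helper28.allLt_succ _ 14 (Cfsg.Agent.Helper28.allLt_succ _ 13 (Cfsg.Agent.Helper28.allLt_succ _ 12 (Cfsg.Agent.Helper28.allLt_succ _ 11 (Cfsg.Agent.Helper28.allLt_succ _ 10 (Cfsg.Agent.Helper28.allLt_succ _ 9 (Cfsg.Agent.Helper28.allLt_succ _ 8 (Cfsg.Agent.Helper28.allLt_succ _ 7 (Cfsg.Agent.Helper28.allLt_succ _ 6 (Cfsg.Agent.Helper28.allLt_succ _ 5 (Cfsg.Agent.Helper28.allLt_succ _ 4 (Cfsg.Agent.Helper28.allLt_succ _ 3 (Cfsg.Agent.Helper28.allLt_succ _ 2 (Cfsg.Agent.Helper28.allLt_succ _ 1 (Cfsg.Agent.Helper28.allLt_succ _ 0 (Cfsg.Agent.Helper28.allLt_zero _) fin_0) fin_1) fin_2) fin_3) fin_4) fin_5) fin_6) fin_7) fin_8) fin_9) fin_10) fin_11) fin_12) fin_13) fin_14) fin_15) fin_16) fin_17) fin_18) fin_19) fin_20) fin_21) fin_22) fin_23) fin_24) fin_25) fin_26) fin_27) fin_28) fin_29) fin_30)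 fin_31) fin_32) fin_33) fin_34) fin_35) fin_36) fin_37) fin_38) fin_39) fin_40) fin_41) fin_42) fin_43) fin_44) fin_45) fin_46) fin_47) fin_48) fin_49) fin_50) fin_51) fin_52) fin_53) fin_54) fin_55) fin_56) fin_57) fin_58) fin_59)

set_option maxRecDepth 100000 in
theorem rel_all : ∀ i, i < 122760 → Cfsg.Agent.Helper28.relPt T relL i = true :=
  Cfsg.Agent.Helper28.pts_of_chunks _ 122760 1024 120 (by decide) (by decide)
    (Cfsg.Agent.Helper28.allLt_succ _ 119 (Cfsg.Agent.Helper28.allLt_succ _ 118 (Cfsg.Agent.Helper28.allLt_succ _ 117 (Cfsg.Agent.Helper28.allLt_succ _ 116 (Cfsg.Agent.Helper28.allLt_succ _ 115 (Cfsg.Agent.Helper28.allLt_succ _ 114 (Cfsg.Agent.Helper28.allLt_succ _ 113 (Cfsg.Agent.Helper28.allLt_succ _ 112 (Cfsg.Agent.Helper28.allLt_succ _ 111 (Cfsg.Agent.Helper28.allLt_succ _ 110 (Cfsg.Agent.Helper28.allLt_succ _ 109 (Cfsg.Agent.Helper28.allLt_succ _ 108 (Cfsg.Agent.Helper28.allLt_succ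 _ 107 (Cfsg.Agent.Helper28.allLt_succ _ 106 (Cfsg.Agent.Helper28.allLt_succ _ 105 (Cfsg.Agent.Helper28.allLt_succ _ 104 (Cfsg.Agent.Helper28.allLt_succ _ 103 (Cfsg.Agent.Helper28.allLt_succ _ 102 (Cfsg.Agent.Helper28.allLt_succ _ 101 (Cfsg.Agent.Helper28.allLt_succ _ 100 (Cfsg.Agent.Helper28.allLt_succ _ 99 (Cfsg.Agent.Helper28.allLt_succ _ 98 (Cfsg.Agent.Helper28.allLt_succ _ 97 (Cfsg.Agent.Helper28.allLt_succ _ 96 (Cfsg.Agent.Helper28.allLt_succ _ 95 (Cfsg.Agent.Helper28.allLt_succ _ 94 (Cfsg.Agent.Helper28.allLt_succ _ 93 (Cfsg.Agent.Helper28.allLt_succ _ 92 (Cfsg.Agent.Helper28.allLt_succ _ 91 (Cfsg.Agent.Helper28.allLt_succ _ 90 (Cfsg.Agent.Helper28.allLt_succ _ 89 (Cfsg.Agent.Helper28.allLt_succ _ 88 (Cfsg.Agent.Helper28.allLt_succ _ 87 (Cfsg.Agent.Helper28.allLt_succ _ 86 (Cfsg.Agent.Helper28.allLt_succ _ 85 (Cfsg.Agent.Helper28.allLt_succ _ 84 (Cfsg.Agent.Helper28.allLt_succ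 _ 83 (Cfsg.Agent.Helper28.allLt_succ _ 82 (Cfsg.Agent.Helper28.allLt_succ _ 81 (Cfsg.Agent.Helper28.allLt_succ _ 80 (Cfsg.Agent.Helper28.allLt_succ _ 79 (Cfsg.Agent.Helper28.allLt_succ _ 78 (Cfsg.Agent.Helper28.allLt_succ _ 77 (Cfsg.Agent.Helper28.allLt_succ _ 76 (Cfsg.Agent.Helper28.allLt_succ _ 75 (Cfsg.Agent.Helper28.allLt_succ _ 74 (Cfsg.Agent.Helper28.allLt_succ _ 73 (Cfsg.Agent.Helper28.allLt_succ _ 72 (Cfsg.Agent.Helper28.allLt_succ _ 71 (Cfsg.Agent.Helper28.allLt_succ _ 70 (Cfsg.Agent.Helper28.allLt_succ _ 69 (Cfsg.Agent.Helper28.allLt_succ _ 68 (Cfsg.Agent.Helper28.allLt_succ _ 67 (Cfsg.Agent.Helper28.allLt_succ _ 66 (Cfsg.Agent.Helper28.allLt_succ _ 65 (Cfsg.Agent.Helper28.allLt_succ _ 64 (Cfsg.Agent.Helper28.allLt_succ _ 63 (Cfsg.Agent.Helper28.allLt_succ _ 62 (Cfsg.Agent.Helper28.allLt_succ _ 61 (Cfsg.Agent.Helper28.allLt_succ _ 60 (Cfsg.Agent.Helper28.allLt_succ _ 59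 (Cfsg.Agent.Helper28.allLt_succ _ 58 (Cfsg.Agent.Helper28.allLt_succ _ 57 (Cfsg.Agent.Helper28.allLt_succ _ 56 (Cfsg.Agent.Helper28.allLt_succ _ 55 (Cfsg.Agent.Helper28.allLt_succ _ 54 (Cfsg.Agent.Helper28.allLt_succ _ 53 (Cfsg.Agent.Helper28.allLt_succ _ 52 (Cfsg.Agent.Helper28.allLt_succ _ 51 (Cfsg.Agent.Helper28.allLt_succ _ 50 (Cfsg.Agent.Helper28.allLt_succ _ 49 (Cfsg.Agent.Helper28.allLt_succ _ 48 (Cfsg.Agent.Helper28.allLt_succ _ 47 (Cfsg.Agent.Helper28.allLt_succ _ 46 (Cfsg.Agent.Helper28.allLt_succ _ 45 (Cfsg.Agent.Helper28.allLt_succ _ 44 (Cfsg.Agent.Helper28.allLt_succ _ 43 (Cfsg.Agent.Helper28.allLt_succ _ 42 (Cfsg.Agent.Helper28.allLt_succ _ 41 (Cfsg.Agent.Helper28.allLt_succ _ 40 (Cfsg.Agent.Helper28.allLt_succ _ 39 (Cfsg.Agent.Helper28.allLt_succ _ 38 (Cfsg.Agent.Helper28.allLt_succ _ 37 (Cfsg.Agent.Helper28.allLt_succ _ 36 (Cfsg.Agent.Helper28.allLt_succ _ 35 (Cfsg.Agent.Helper28.allLt_succ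 _ 34 (Cfsg.Agent.Helper28.allLt_succ _ 33 (Cfsg.Agent.Helper28.allLt_succ _ 32 (Cfsg.Agent.Helper28.allLt_succ _ 31 (Cfsg.Agent.Helper28.allLt_succ _ 30 (Cfsg.Agent.Helper28.allLt_succ _ 29 (Cfsg.Agent.Helper28.allLt_succ _ 28 (Cfsg.Agent.Helper28.allLt_succ _ 27 (Cfsg.Agent.Helper28.allLt_succ _ 26 (Cfsg.Agent.Helper28.allLt_succ _ 25 (Cfsg.Agent.Helper28.allLt_succ _ 24 (Cfsg.Agent.Helper28.allLt_succ _ 23 (Cfsg.Agent.Helper28.allLt_succ _ 22 (Cfsg.Agent.Helper28.allLt_succ _ 21 (Cfsg.Agent.Helper28.allLt_succ _ 20 (Cfsg.Agent.Helper28.allLt_succ _ 19 (Cfsg.Agent.Helper28.allLt_succ _ 18 (Cfsg.Agent.Helper28.allLt_succ _ 17 (Cfsg.Agent.Helper28.allLt_succ _ 16 (Cfsg.Agent.Helper28.allLt_succ _ 15 (Cfsg.Agent.Helper28.allLt_succ _ 14 (Cfsg.Agent.Helper28.allLt_succ _ 13 (Cfsg.Agent.Helper28.allLt_succ _ 12 (Cfsg.Agent.Helper28.allLt_succ _ 11 (Cfsg.Agent.Helper28.allLt_succ _ 10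 (Cfsg.Agent.Helper28.allLt_succ _ 9 (Cfsg.Agent.Helper28.allLt_succ _ 8 (Cfsg.Agent.Helper28.allLt_succ _ 7 (Cfsg.Agent.Helper28.allLt_succ _ 6 (Cfsg.Agent.Helper28.allLt_succ _ 5 (Cfsg.Agent.Helper28.allLt_succ _ 4 (Cfsg.Agent.Helper28.allLt_succ _ 3 (Cfsg.Agent.Helper28.allLt_succ _ 2 (Cfsg.Agent.Helper28.allLt_succ _ 1 (Cfsg.Agent.Helper28.allLt_succ _ 0 (Cfsg.Agent.Helper28.allLt_zero _) rel_0) rel_1) rel_2) rel_3) rel_4) rel_5) rel_6) rel_7) rel_8) rel_9) rel_10) rel_11) rel_12) rel_13) rel_14) rel_15) rel_16) rel_17) rel_18) rel_19) rel_20) rel_21) rel_22) rel_23) rel_24) rel_25) rel_26) rel_27) rel_28) rel_29) rel_30) rel_31) rel_32) rel_33) rel_34) rel_35) rel_36) rel_37) rel_38) rel_39) rel_40) rel_41) rel_42) rel_43) rel_44) rel_45) rel_46) rel_47) rel_48) rel_49) rel_50) rel_51) rel_52) rel_53) rel_54) rel_55) rel_56) rel_57) rel_58) rel_59) rel_60) rel_61) rel_62) rel_63)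 rel_64) rel_65) rel_66) rel_67) rel_68) rel_69) rel_70) rel_71) rel_72) rel_73) rel_74) rel_75) rel_76) rel_77) rel_78) rel_79) rel_80) rel_81) rel_82) rel_83) rel_84) rel_85) rel_86) rel_87) rel_88) rel_89) rel_90) rel_91) rel_92) rel_93) rel_94) rel_95) rel_96) rel_97) rel_98) rel_99) rel_100) rel_101) rel_102) rel_103) rel_104) rel_105) rel_106) rel_107) rel_108) rel_109) rel_110) rel_111) rel_112) rel_113) rel_114) rel_115) rel_116) rel_117) rel_118) rel_119)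

set_option maxRecDepth 100000 in
theorem wE_0 : Cfsg.Agent.Helper28.Gn.WordOfG Cfsg.Spor.ON.edges gen sgn ((Cfsg.Spor.ON.a * Cfsg.Spor.ON.f) * ((Cfsg.Spor.ON.g ^ 2)⁻¹)) [1, 6, 7, 7] := by
  intro K _ v hv
  simp only [map_mul, map_pow, map_inv, FreeGroup.lift_apply_of, mul_inv_rev, inv_pow,
    Cfsg.Agent.Helper28.inv_of_sq _ (hv Cfsg.Spor.ON.Gen.a (by decide)), Cfsg.Agent.Helper28.inv_of_sq _ (hv Cfsg.Spor.ON.Gen.b (by decide)), Cfsg.Agent.Helper28.inv_of_sq _ (hv Cfsg.Spor.ON.Gen.c (by decide)), Cfsg.Agent.Helper28.inv_of_sq _ (hv Cfsg.Spor.ON.Gen.d (by decide)), Cfsg.Agent.Helper28.inv_of_sq _ (hv Cfsg.Spor.ON.Gen.e (by decide)), Cfsg.Agent.Helper28.inv_of_sq _ (hv Cfsg.Spor.ON.Gen.f (by decide)),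
    List.map_cons, List.map_nil, List.prod_cons, List.prod_nil, Cfsg.Agent.Helper28.Gn.cval, gen, sgn, cond_true, cond_false,
    pow_succ, pow_zero, one_mul, mul_one, mul_assoc]

set_option maxRecDepth 100000 in
theorem wE_1 : Cfsg.Agent.Helper28.Gn.WordOfG Cfsg.Spor.ON.edges gen sgn ((Cfsg.Spor.ON.a * Cfsg.Spor.ON.f) * (((Cfsg.Spor.ON.c * Cfsg.Spor.ON.d) ^ 4)⁻¹)) [1, 6, 4, 3, 4, 3, 4, 3, 4, 3] := by
  intro K _ v hv
  simp only [map_mul, map_pow, map_inv, FreeGroup.lift_apply_of, mul_inv_rev, inv_pow,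
    Cfsg.Agent.Helper28.inv_of_sq _ (hv Cfsg.Spor.ON.Gen.a (by decide)), Cfsg.Agent.Helper28.inv_of_sq _ (hv Cfsg.Spor.ON.Gen.b (by decide)), Cfsg.Agent.Helper28.inv_of_sq _ (hv Cfsg.Spor.ON.Gen.c (by decide)), Cfsg.Agent.Helper28.inv_of_sq _ (hv Cfsg.Spor.ON.Gen.d (by decide)), Cfsg.Agent.Helper28.inv_of_sq _ (hv Cfsg.Spor.ON.Gen.e (by decide)), Cfsg.Agent.Helper28.inv_of_sq _ (hv Cfsg.Spor.ON.Gen.f (by decide)),
    List.map_cons, List.map_nil, List.prod_cons, List.prod_nil, Cfsg.Agent.Helper28.Gn.cval, gen, sgn, cond_true, cond_false,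
    pow_succ, pow_zero, one_mul, mul_one, mul_assoc]

set_option maxRecDepth 100000 in
theorem wE_2 : Cfsg.Agent.Helper28.Gn.WordOfG Cfsg.Spor.ON.edges gen sgn (Cfsg.Spor.ON.c * ((Cfsg.Spor.ON.d * Cfsg.Spor.ON.g * Cfsg.Spor.ON.d * Cfsg.Spor.ON.g)⁻¹ * Cfsg.Spor.ON.c * (Cfsg.Spor.ON.d * Cfsg.Spor.ON.g * Cfsg.Spor.ON.d * Cfsg.Spor.ON.g))) [3, 7, 4, 7, 4, 3, 4, 0, 4, 0] := by
  intro K _ v hv
  simp only [map_mul, map_pow, map_inv, FreeGroup.lift_apply_of, mul_inv_rev, inv_pow,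
    Cfsg.Agent.Helper28.inv_of_sq _ (hv Cfsg.Spor.ON.Gen.a (by decide)), Cfsg.Agent.Helper28.inv_of_sq _ (hv Cfsg.Spor.ON.Gen.b (by decide)), Cfsg.Agent.Helper28.inv_of_sq _ (hv Cfsg.Spor.ON.Gen.c (by decide)), Cfsg.Agent.Helper28.inv_of_sq _ (hv Cfsg.Spor.ON.Gen.d (by decide)), Cfsg.Agent.Helper28.inv_of_sq _ (hv Cfsg.Spor.ON.Gen.e (by decide)), Cfsg.Agent.Helper28.inv_of_sq _ (hv Cfsg.Spor.ON.Gen.f (by decide)),
    List.map_cons, List.map_nil, List.prod_cons, List.prod_nil, Cfsg.Agent.Helper28.Gn.cval, gen, sgn, cond_true, cond_false,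
    pow_succ, pow_zero, one_mul, mul_one, mul_assoc]

set_option maxRecDepth 100000 in
theorem wE_3 : Cfsg.Agent.Helper28.Gn.WordOfG Cfsg.Spor.ON.edges gen sgn (Cfsg.Spor.ON.d * ((Cfsg.Spor.ON.c * Cfsg.Spor.ON.g * Cfsg.Spor.ON.c * Cfsg.Spor.ON.g)⁻¹ * Cfsg.Spor.ON.d * (Cfsg.Spor.ON.c * Cfsg.Spor.ON.g * Cfsg.Spor.ON.c * Cfsg.Spor.ON.g))) [4, 7, 3, 7, 3, 4, 3, 0, 3, 0] := by
  intro K _ v hv
  simp only [map_mul, map_pow, map_inv, FreeGroup.lift_apply_of, mul_inv_rev, inv_pow,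
    Cfsg.Agent.Helper28.inv_of_sq _ (hv Cfsg.Spor.ON.Gen.a (by decide)), Cfsg.Agent.Helper28.inv_of_sq _ (hv Cfsg.Spor.ON.Gen.b (by decide)), Cfsg.Agent.Helper28.inv_of_sq _ (hv Cfsg.Spor.ON.Gen.c (by decide)), Cfsg.Agent.Helper28.inv_of_sq _ (hv Cfsg.Spor.ON.Gen.d (by decide)), Cfsg.Agent.Helper28.inv_of_sq _ (hv Cfsg.Spor.ON.Gen.e (by decide)), Cfsg.Agent.Helper28.inv_of_sq _ (hv Cfsg.Spor.ON.Gen.f (by decide)),
    List.map_cons, List.map_nil, List.prod_cons, List.prod_nil, Cfsg.Agent.Helper28.Gn.cval, gen, sgn, cond_true, cond_false,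
    pow_succ, pow_zero, one_mul, mul_one, mul_assoc]

set_option maxRecDepth 100000 in
theorem wE_4 : Cfsg.Agent.Helper28.Gn.WordOfG Cfsg.Spor.ON.edges gen sgn ((Cfsg.Spor.ON.b * Cfsg.Spor.ON.c * Cfsg.Spor.ON.d * Cfsg.Spor.ON.g) ^ 5) [2, 3, 4, 0, 2, 3, 4, 0, 2, 3, 4, 0, 2, 3, 4, 0, 2, 3, 4, 0] := by
  intro K _ v hv
  simp only [map_mul, map_pow, map_inv, FreeGroup.lift_apply_of, mul_inv_rev, inv_pow,
    Cfsg.Agent.Helper28.inv_of_sq _ (hv Cfsg.Spor.ON.Gen.a (by decide)), Cfsg.Agent.Helper28.inv_of_sq _ (hv Cfsg.Spor.ON.Gen.b (by decide)), Cfsg.Agent.Helper28.inv_of_sq _ (hv Cfsg.Spor.ON.Gen.c (by decide)), Cfsg.Agent.Helper28.inv_of_sq _ (hv Cfsg.Spor.ON.Gen.d (by decide)), Cfsg.Agent.Helper28.inv_of_sq _ (hv Cfsg.Spor.ON.Gen.e (by decide)), Cfsg.Agent.Helper28.inv_of_sq _ (hv Cfsg.Spor.ON.Gen.f (by decide)),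
    List.map_cons, List.map_nil, List.prod_cons, List.prod_nil, Cfsg.Agent.Helper28.Gn.cval, gen, sgn, cond_true, cond_false,
    pow_succ, pow_zero, one_mul, mul_one, mul_assoc]

set_option maxRecDepth 100000 in
theorem wE_5 : Cfsg.Agent.Helper28.Gn.WordOfG Cfsg.Spor.ON.edges gen sgn (Cfsg.Spor.ON.g * Cfsg.Spor.ON.b * (Cfsg.Spor.ON.c⁻¹ * Cfsg.Spor.ON.g * Cfsg.Spor.ON.c) * (Cfsg.Spor.ON.b⁻¹ * Cfsg.Spor.ON.g * Cfsg.Spor.ON.b) * (Cfsg.Spor.ON.c⁻¹ * Cfsg.Spor.ON.g * Cfsg.Spor.ON.c)) [0, 2, 3, 0, 3, 2, 0, 2, 3, 0, 3] := by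
  intro K _ v hv
  simp only [map_mul, map_pow, map_inv, FreeGroup.lift_apply_of, mul_inv_rev, inv_pow,
    Cfsg.Agent.Helper28.inv_of_sq _ (hv Cfsg.Spor.ON.Gen.a (by decide)), Cfsg.Agent.Helper28.inv_of_sq _ (hv Cfsg.Spor.ON.Gen.b (by decide)), Cfsg.Agent.Helper28.inv_of_sq _ (hv Cfsg.Spor.ON.Gen.c (by decide)), Cfsg.Agent.Helper28.inv_of_sq _ (hv Cfsg.Spor.ON.Gen.d (by decide)), Cfsg.Agent.Helper28.inv_of_sq _ (hv Cfsg.Spor.ON.Gen.e (by decide)), Cfsg.Agent.Helper28.inv_of_sq _ (hv Cfsg.Spor.ON.Gen.f (by decide)),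
    List.map_cons, List.map_nil, List.prod_cons, List.prod_nil, Cfsg.Agent.Helper28.Gn.cval, gen, sgn, cond_true, cond_false,
    pow_succ, pow_zero, one_mul, mul_one, mul_assoc]

set_option maxRecDepth 100000 in
theorem wE_6 : Cfsg.Agent.Helper28.Gn.WordOfG Cfsg.Spor.ON.edges gen sgn (Cfsg.Spor.ON.g * Cfsg.Spor.ON.e * (Cfsg.Spor.ON.d⁻¹ * Cfsg.Spor.ON.g * Cfsg.Spor.ON.d) * (Cfsg.Spor.ON.e⁻¹ * Cfsg.Spor.ON.g * Cfsg.Spor.ON.e) * (Cfsg.Spor.ON.d⁻¹ * Cfsg.Spor.ON.g * Cfsg.Spor.ON.d)) [0, 5, 4, 0, 4, 5, 0, 5, 4, 0, 4] := by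
  intro K _ v hv
  simp only [map_mul, map_pow, map_inv, FreeGroup.lift_apply_of, mul_inv_rev, inv_pow,
    Cfsg.Agent.Helper28.inv_of_sq _ (hv Cfsg.Spor.ON.Gen.a (by decide)), Cfsg.Agent.Helper28.inv_of_sq _ (hv Cfsg.Spor.ON.Gen.b (by decide)), Cfsg.Agent.Helper28.inv_of_sq _ (hv Cfsg.Spor.ON.Gen.c (by decide)), Cfsg.Agent.Helper28.inv_of_sq _ (hv Cfsg.Spor.ON.Gen.d (by decide)), Cfsg.Agent.Helper28.inv_of_sq _ (hv Cfsg.Spor.ON.Gen.e (by decide)), Cfsg.Agent.Helper28.inv_of_sq _ (hv Cfsg.Spor.ON.Gen.f (by decide)),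
    List.map_cons, List.map_nil, List.prod_cons, List.prod_nil, Cfsg.Agent.Helper28.Gn.cval, gen, sgn, cond_true, cond_false,
    pow_succ, pow_zero, one_mul, mul_one, mul_assoc]

set_option maxRecDepth 100000 in
theorem wS_0 : Cfsg.Agent.Helper28.Gn.WordOfG Cfsg.Spor.ON.edges gen sgn (Cfsg.Spor.ON.a) [1] := by
  intro K _ v hv
  simp only [map_mul, map_pow, map_inv, FreeGroup.lift_apply_of, mul_inv_rev, inv_pow,
    Cfsg.Agent.Helper28.inv_of_sq _ (hv Cfsg.Spor.ON.Gen.a (by decide)), Cfsg.Agent.Helper28.inv_of_sq _ (hv Cfsg.Spor.ON.Gen.b (by decide)), Cfsg.Agent.Helper28.inv_of_sq _ (hv Cfsg.Spor.ON.Gen.c (by decide)), Cfsg.Agent.Helper28.inv_of_sq _ (hv Cfsg.Spor.ON.Gen.d (by decide)), Cfsg.Agent.Helper28.inv_of_sq _ (hv Cfsg.Spor.ON.Gen.e (by decide)), Cfsg.Agent.Helper28.inv_of_sq _ (hv Cfsg.Spor.ON.Gen.f (by decide)),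
    List.map_cons, List.map_nil, List.prod_cons, List.prod_nil, Cfsg.Agent.Helper28.Gn.cval, gen, sgn, cond_true, cond_false,
    pow_succ, pow_zero, one_mul, mul_one, mul_assoc]

set_option maxRecDepth 100000 in
theorem wS_1 : Cfsg.Agent.Helper28.Gn.WordOfG Cfsg.Spor.ON.edges gen sgn (Cfsg.Spor.ON.b) [2] := by
  intro K _ v hv
  simp only [map_mul, map_pow, map_inv, FreeGroup.lift_apply_of, mul_inv_rev, inv_pow,
    Cfsg.Agent.Helper28.inv_of_sq _ (hv Cfsg.Spor.ON.Gen.a (by decide)), Cfsg.Agent.Helper28.inv_of_sq _ (hv Cfsg.Spor.ON.Gen.b (by decide)), Cfsg.Agent.Helper28.inv_of_sq _ (hv Cfsg.Spor.ON.Gen.c (by decide)), Cfsg.Agent.Helper28.inv_of_sq _ (hv Cfsg.Spor.ON.Gen.d (by decide)), Cfsg.Agent.Helper28.inv_of_sq _ (hv Cfsg.Spor.ON.Gen.e (by decide)), Cfsg.Agent.Helper28.inv_of_sq _ (hv Cfsg.Spor.ON.Gen.f (by decide)),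
    List.map_cons, List.map_nil, List.prod_cons, List.prod_nil, Cfsg.Agent.Helper28.Gn.cval, gen, sgn, cond_true, cond_false,
    pow_succ, pow_zero, one_mul, mul_one, mul_assoc]

set_option maxRecDepth 100000 in
theorem wS_2 : Cfsg.Agent.Helper28.Gn.WordOfG Cfsg.Spor.ON.edges gen sgn (Cfsg.Spor.ON.c) [3] := by
  intro K _ v hv
  simp only [map_mul, map_pow, map_inv, FreeGroup.lift_apply_of, mul_inv_rev, inv_pow,
    Cfsg.Agent.Helper28.inv_of_sq _ (hv Cfsg.Spor.ON.Gen.a (by decide)), Cfsg.Agent.Helper28.inv_of_sq _ (hv Cfsg.Spor.ON.Gen.b (by decide)), Cfsg.Agent.Helper28.inv_of_sq _ (hv Cfsg.Spor.ON.Gen.c (by decide)), Cfsg.Agent.Helper28.inv_of_sq _ (hv Cfsg.Spor.ON.Gen.d (by decide)), Cfsg.Agent.Helper28.inv_of_sq _ (hv Cfsg.Spor.ON.Gen.e (by decide)), Cfsg.Agent.Helper28.inv_of_sq _ (hv Cfsg.Spor.ON.Gen.f (by decide)),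
    List.map_cons, List.map_nil, List.prod_cons, List.prod_nil, Cfsg.Agent.Helper28.Gn.cval, gen, sgn, cond_true, cond_false,
    pow_succ, pow_zero, one_mul, mul_one, mul_assoc]

set_option maxRecDepth 100000 in
theorem wS_3 : Cfsg.Agent.Helper28.Gn.WordOfG Cfsg.Spor.ON.edges gen sgn (Cfsg.Spor.ON.d) [4] := by
  intro K _ v hv
  simp only [map_mul, map_pow, map_inv, FreeGroup.lift_apply_of, mul_inv_rev, inv_pow,
    Cfsg.Agent.Helper28.inv_of_sq _ (hv Cfsg.Spor.ON.Gen.a (by decide)), Cfsg.Agent.Helper28.inv_of_sq _ (hv Cfsg.Spor.ON.Gen.b (by decide)), Cfsg.Agent.Helper28.inv_of_sq _ (hv Cfsg.Spor.ON.Gen.c (by decide)), Cfsg.Agent.Helper28.inv_of_sq _ (hv Cfsg.Spor.ON.Gen.d (by decide)), Cfsg.Agent.Helper28.inv_of_sq _ (hv Cfsg.Spor.ON.Gen.e (by decide)), Cfsg.Agent.Helper28.inv_of_sq _ (hv Cfsg.Spor.ON.Gen.f (by decide)),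
    List.map_cons, List.map_nil, List.prod_cons, List.prod_nil, Cfsg.Agent.Helper28.Gn.cval, gen, sgn, cond_true, cond_false,
    pow_succ, pow_zero, one_mul, mul_one, mul_assoc]

set_option maxRecDepth 100000 in
theorem wS_4 : Cfsg.Agent.Helper28.Gn.WordOfG Cfsg.Spor.ON.edges gen sgn (Cfsg.Spor.ON.e) [5] := by
  intro K _ v hv
  simp only [map_mul, map_pow, map_inv, FreeGroup.lift_apply_of, mul_inv_rev, inv_pow,
    Cfsg.Agent.Helper28.inv_of_sq _ (hv Cfsg.Spor.ON.Gen.a (by decide)), Cfsg.Agent.Helper28.inv_of_sq _ (hv Cfsg.Spor.ON.Gen.b (by decide)), Cfsg.Agent.Helper28.inv_of_sq _ (hv Cfsg.Spor.ON.Gen.c (by decide)), Cfsg.Agent.Helper28.inv_of_sq _ (hv Cfsg.Spor.ON.Gen.d (by decide)), Cfsg.Agent.Helper28.inv_of_sq _ (hv Cfsg.Spor.ON.Gen.e (by decide)), Cfsg.Agent.Helper28.inv_of_sq _ (hv Cfsg.Spor.ON.Gen.f (by decide)),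
    List.map_cons, List.map_nil, List.prod_cons, List.prod_nil, Cfsg.Agent.Helper28.Gn.cval, gen, sgn, cond_true, cond_false,
    pow_succ, pow_zero, one_mul, mul_one, mul_assoc]

set_option maxRecDepth 100000 in
theorem wS_5 : Cfsg.Agent.Helper28.Gn.WordOfG Cfsg.Spor.ON.edges gen sgn (Cfsg.Spor.ON.f) [6] := by
  intro K _ v hv
  simp only [map_mul, map_pow, map_inv, FreeGroup.lift_apply_of, mul_inv_rev, inv_pow,
    Cfsg.Agent.Helper28.inv_of_sq _ (hv Cfsg.Spor.ON.Gen.a (by decide)), Cfsg.Agent.Helper28.inv_of_sq _ (hv Cfsg.Spor.ON.Gen.b (by decide)), Cfsg.Agent.Helper28.inv_of_sq _ (hv Cfsg.Spor.ON.Gen.c (by decide)), Cfsg.Agent.Helper28.inv_of_sq _ (hv Cfsg.Spor.ON.Gen.d (by decide)), Cfsg.Agent.Helper28.inv_of_sq _ (hv Cfsg.Spor.ON.Gen.e (by decide)), Cfsg.Agent.Helper28.inv_of_sq _ (hv Cfsg.Spor.ON.Gen.f (by decide)),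
    List.map_cons, List.map_nil, List.prod_cons, List.prod_nil, Cfsg.Agent.Helper28.Gn.cval, gen, sgn, cond_true, cond_false,
    pow_succ, pow_zero, one_mul, mul_one, mul_assoc]

theorem wE_all : List.Forall₂ (Cfsg.Agent.Helper28.Gn.WordOfG Cfsg.Spor.ON.edges gen sgn) Cfsg.Spor.ON.extra extraL := by
  unfold Cfsg.Spor.ON.extra extraL
  exact List.Forall₂.cons wE_0 (List.Forall₂.cons wE_1 (List.Forall₂.cons wE_2 (List.Forall₂.cons wE_3 (List.Forall₂.cons wE_4 (List.Forall₂.cons wE_5 (List.Forall₂.cons wE_6 (List.Forall₂.nil)))))))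

theorem wSub_l : ∀ l ∈ subL, ∃ s ∈ ({Cfsg.Spor.ON.a, Cfsg.Spor.ON.b, Cfsg.Spor.ON.c, Cfsg.Spor.ON.d, Cfsg.Spor.ON.e, Cfsg.Spor.ON.f} : Set (FreeGroup Cfsg.Spor.ON.Gen)), Cfsg.Agent.Helper28.Gn.WordOfG Cfsg.Spor.ON.edges gen sgn s l := by
  intro l hl
  simp only [subL, List.mem_cons, List.mem_nil_iff, or_false] at hl
  rcases hl with rfl | rfl | rfl | rfl | rfl | rfl
  · exact ⟨_, by simp only [Set.mem_insert_iff, Set.mem_singleton_iff, true_or, or_true], wS_0⟩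
  · exact ⟨_, by simp only [Set.mem_insert_iff, Set.mem_singleton_iff, true_or, or_true], wS_1⟩
  · exact ⟨_, by simp only [Set.mem_insert_iff, Set.mem_singleton_iff, true_or, or_true], wS_2⟩
  · exact ⟨_, by simp only [Set.mem_insert_iff, Set.mem_singleton_iff, true_or, or_true], wS_3⟩
  · exact ⟨_, by simp only [Set.mem_insert_iff, Set.mem_singleton_iff, true_or, or_true], wS_4⟩
  · exact ⟨_, by simp only [Set.mem_insert_iff, Set.mem_singleton_iff, true_or, or_true], wS_5⟩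

theorem wSub_r : ∀ s ∈ ({Cfsg.Spor.ON.a, Cfsg.Spor.ON.b, Cfsg.Spor.ON.c, Cfsg.Spor.ON.d, Cfsg.Spor.ON.e, Cfsg.Spor.ON.f} : Set (FreeGroup Cfsg.Spor.ON.Gen)), ∃ l ∈ subL, Cfsg.Agent.Helper28.Gn.WordOfG Cfsg.Spor.ON.edges gen sgn s l := by
  intro s hs
  simp only [Set.mem_insert_iff, Set.mem_singleton_iff] at hs
  rcases hs with rfl | rfl | rfl | rfl | rfl | rfl
  · exact ⟨_, by simp only [subL, List.mem_cons, List.mem_nil_iff, true_or, or_true], wS_0⟩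
  · exact ⟨_, by simp only [subL, List.mem_cons, List.mem_nil_iff, true_or, or_true], wS_1⟩
  · exact ⟨_, by simp only [subL, List.mem_cons, List.mem_nil_iff, true_or, or_true], wS_2⟩
  · exact ⟨_, by simp only [subL, List.mem_cons, List.mem_nil_iff, true_or, or_true], wS_3⟩
  · exact ⟨_, by simp only [subL, List.mem_cons, List.mem_nil_iff, true_or, or_true], wS_4⟩
  · exact ⟨_, by simp only [subL, List.mem_cons, List.mem_nil_iff, true_or, or_true], wS_5⟩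

/-- The certificate. -/
theorem cert : Cfsg.Agent.Helper28.Gn.GCert Cfsg.Spor.ON.edges Cfsg.Spor.ON.extra
    ({Cfsg.Spor.ON.a, Cfsg.Spor.ON.b, Cfsg.Spor.ON.c, Cfsg.Spor.ON.d, Cfsg.Spor.ON.e, Cfsg.Spor.ON.f} : Set (FreeGroup Cfsg.Spor.ON.Gen)) gen sgn code D 122760 lv T pairs invL extraL subL where
  hD := by decide +kernel
  hnrel := by decide +kernel
  hcode := by intro x; cases x <;> exact ⟨by decide +kernel, rfl, rfl⟩
  hnodecol := by decide +kernel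
  hcol := by decide +kernel
  hivjc := by decide +kernel
  hpairs1 := by decide +kernel
  hpairs2 := by decide +kernel
  hinvL1 := by decide +kernel
  hinvL2 := by decide +kernel
  hextra1 := Cfsg.Agent.Helper28.forall2_right wE_all
  hextra2 := Cfsg.Agent.Helper28.forall2_left wE_all
  hsub1 := wSub_l
  hsub2 := wSub_r
  hletE := by decide +kernel
  hletS := by decide +kernel
  hN := Cfsg.Agent.Helper28.Gn.pad_ok D (by decide +kernel)
  hchk := (Cfsg.Agent.Helper28.Gn.rows_ok D rows_all).1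
  hchkJ := (Cfsg.Agent.Helper28.Gn.rows_ok D rows_all).2
  hfin := Cfsg.Agent.Helper28.Gn.finSem_of D 122760 lv T ftp ftc fin_all (by decide +kernel)
  hn := by decide
  hTrel := Cfsg.Agent.Helper28.rel_ok T relL 122760 rel_all
  hTsub := by decide +kernel

end Cfsg.Agent.Helper28.C1692
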